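import Groth.Agent.LocalDim.Affine
import Groth.Agent.FibreDim.Alg

/-!
# Transcendence degree and closed fibre of flat local extensions
-/

set_option autoImplicit false

universe u

open TensorProduct

namespace Groth.Agent.TrdegFlat

/-- Elements of a flat algebra over a local ring which are algebraically independent over the residue
field after a map to an algebra over the residue field are algebraically independent. -/
theorem algebraicIndependent_of_flat {A B L : Type u} [CommRing A] [IsLocalRing A] [CommRing B] [Algebra A B]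
    [Module.Flat A B] [CommRing L] [Algebra A L] [Algebra (IsLocalRing.ResidueField A) L]
    [IsScalarTower A (IsLocalRing.ResidueField A) L] (χ : B →ₐ[A] L) {ι : Type u} (z : ι → B)
    (h : AlgebraicIndependent (IsLocalRing.ResidueField A) (χ ∘ z)) : AlgebraicIndependent A z := by
  let k := IsLocalRing.ResidueField A
  let v : (ι →₀ ℕ) → B := fun d => MvPolynomial.aeval z (MvPolynomial.monomial d 1)
  let Φ : k ⊗[A] B →ₐ[k] L :=
    Algebra.TensorProduct.lift (Algebra.ofId k L) χ fun _ _ => Commute.all _ _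
  have hv : LinearIndependent A v := by
    refine Module.IsLocalRing.linearIndependent_of_flat v ?_
    refine LinearIndependent.of_comp Φ.toLinearMap ?_
    have h1 := (MvPolynomial.basisMonomials ι k).linearIndependent.map'
      (MvPolynomial.aeval (χ ∘ z)).toLinearMap (LinearMap.ker_eq_bot.2 h)
    have heq : (Φ.toLinearMap ∘ TensorProduct.mk A k B 1 ∘ v) =
        (MvPolynomial.aeval (χ ∘ z)).toLinearMap ∘ (MvPolynomial.basisMonomials ι k) := by
      funext d
      simp [Φ, v, MvPolynomial.aeval_monomial, Finsupp.prod, map_prod]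
    rw [heq]
    exact h1
  refine algebraicIndependent_iff.2 fun G hG => ?_
  ext d
  by_cases hd : d ∈ G.support
  · rw [MvPolynomial.coeff_zero]
    refine linearIndependent_iff'.1 hv G.support (fun d => MvPolynomial.coeff d G) ?_ d hd
    conv_rhs => rw [← hG]
    conv_rhs => rw [MvPolynomial.as_sum G, map_sum]
    refine Finset.sum_congr rfl fun i _ => ?_
    simp [v, MvPolynomial.aeval_monomial, Algebra.smul_def]
  · rw [MvPolynomial.notMem_support_iff.1 hd, MvPolynomial.coeff_zero]

theorem dim_quotient_eq_coheight {R : Type u} [CommRing R] (p : PrimeSpectrum R) :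
    ringKrullDim (R ⧸ p.asIdeal) = (Order.coheight p : WithBot ℕ∞) := by
  rw [ringKrullDim_quotient, Order.coheight_eq_krullDim_Ici]
  refine Order.krullDim_eq_of_orderIso (OrderIso.setCongr _ _ ?_)
  ext r
  exact PrimeSpectrum.mem_zeroLocus _ _

section Local

variable {A C Cb : Type u} [CommRing A] [IsLocalRing A] [CommRing C] [Algebra A C] [CommRing Cb] [Algebra A Cb]
  (π : C →ₐ[A] Cb) (hπ : Function.Surjective π)
  (hker : RingHom.ker π.toRingHom = (IsLocalRing.maximalIdeal A).map (algebraMap A C))

include hπ hker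

/-- The transcendence degree is at most the dimension of the closed fibre near any of its points. -/
theorem trdeg_le_of_fibre [IsDomain A] [IsDomain C] [Algebra.FiniteType A C] [FaithfulSMul A C]
    [IsNoetherianRing Cb] (qb : Ideal Cb) [qb.IsPrime] (n : ℕ)
    (hall : ∀ P : PrimeSpectrum Cb, P.asIdeal ≤ qb → ringKrullDim (Cb ⧸ P.asIdeal) ≤ n) :
    Algebra.trdeg A C ≤ n := by
  classical
  let m := IsLocalRing.maximalIdeal A
  let q : Ideal C := qb.comap π.toRingHom
  have hqm : q.comap (algebraMap A C) = m := by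
    refine le_antisymm (IsLocalRing.le_maximalIdeal (Ideal.IsPrime.ne_top inferInstance)) ?_
    rw [← Ideal.map_le_iff_le_comap, ← hker]
    exact Ideal.ker_le_comap π.toRingHom
  have hfin : (minimalPrimes Cb).Finite := minimalPrimes.finite_of_isNoetherianRing Cb
  have hch : ∀ Q : Ideal Cb, ∃ y : Cb, y ∉ qb ∧ (¬ Q ≤ qb → y ∈ Q) := fun Q => by
    by_cases hQ : Q ≤ qb
    · exact ⟨1, fun h => (inferInstance : qb.IsPrime).ne_top ((Ideal.eq_top_iff_one _).2 h), fun h => absurd hQ h⟩
    · obtain ⟨y, hy, hy'⟩ := SetLike.not_le_iff_exists.1 hQ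
      exact ⟨y, hy', fun _ => hy⟩
  choose y hy hy' using hch
  let G : Cb := ∏ Q ∈ hfin.toFinset, y Q
  have hG : G ∉ qb := fun h => by
    obtain ⟨Q, -, hQ⟩ := (inferInstance : qb.IsPrime).prod_mem_iff.1 h
    exact hy Q hQ
  obtain ⟨g, hgG⟩ := hπ G
  have hgq : g ∉ q := fun h => hG (hgG ▸ h)
  have hg0 : g ≠ 0 := fun h => hgq (h ▸ q.zero_mem)
  let C' := Localization.Away g
  have hpow : Submonoid.powers g ≤ nonZeroDivisors C := powers_le_nonZeroDivisors_of_noZeroDivisors hg0
  haveI : IsDomain C' := IsLocalization.isDomain_localization hpow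
  have hCC' : Function.Injective (algebraMap C C') := IsLocalization.injective C' hpow
  haveI : Algebra.FiniteType A C' := Algebra.FiniteType.trans (S := C) inferInstance inferInstance
  haveI : FaithfulSMul A C' := (faithfulSMul_iff_algebraMap_injective A C').2 (by
    rw [IsScalarTower.algebraMap_eq A C C', RingHom.coe_comp]
    exact hCC'.comp (FaithfulSMul.algebraMap_injective A C))
  have hdisj : Disjoint (Submonoid.powers g : Set C) (q : Set C) :=
    (Ideal.disjoint_powers_iff_notMem_of_isPrime g).2 hgq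
  let q' : Ideal C' := q.map (algebraMap C C')
  haveI : q'.IsPrime := IsLocalization.isPrime_of_isPrime_disjoint _ C' q inferInstance hdisj
  have hq'A : q'.comap (algebraMap A C') = m := by
    rw [IsScalarTower.algebraMap_eq A C C', ← Ideal.comap_comap]
    exact (congrArg (Ideal.comap (algebraMap A C))
      (IsLocalization.under_map_of_isPrime_disjoint _ C' inferInstance hdisj)).trans hqm
  let pm : PrimeSpectrum A := IsLocalRing.closedPoint A
  haveI : Nontrivial (m.Fiber C') := by
    rw [← PrimeSpectrum.nonempty_iff_nontrivial]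
    exact ⟨PrimeSpectrum.preimageHomeomorphFiber A C' pm ⟨⟨q', inferInstance⟩, PrimeSpectrum.ext hq'A⟩⟩
  obtain ⟨n', φ, hn', hφ⟩ := FibreDim.exists_isQFAt (B := C') m
  refine (trdeg_le_of_injective (IsScalarTower.toAlgHom A C C') hCC').trans
    ((FibreDim.trdeg_of_isQFAt φ q' (hφ q' hq'A)).1.trans ?_)
  let e := PrimeSpectrum.preimageOrderIsoFiber A C' pm
  let T := PrimeSpectrum.comap (algebraMap A C') ⁻¹' {pm}
  have hJT : ∀ z : T, RingHom.ker π.toRingHom ≤ z.1.asIdeal.comap (algebraMap C C') := fun z => by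
    rw [hker, Ideal.map_le_iff_le_comap, Ideal.comap_comap, ← IsScalarTower.algebraMap_eq A C C']
    exact (congrArg PrimeSpectrum.asIdeal z.2).ge
  have hTC : ∀ z : T, (Ideal.map π.toRingHom (z.1.asIdeal.comap (algebraMap C C'))).comap π.toRingHom =
      z.1.asIdeal.comap (algebraMap C C') := fun z => by
    rw [Ideal.comap_map_of_surjective π.toRingHom hπ, sup_eq_left, ← RingHom.ker_eq_comap_bot]
    exact hJT z
  let Θ : T → PrimeSpectrum Cb := fun z => ⟨Ideal.map π.toRingHom (z.1.asIdeal.comap (algebraMap C C')),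
    Ideal.map_isPrime_of_surjective hπ (hJT z)⟩
  have hΘ : StrictMono Θ := by
    refine Monotone.strictMono_of_injective (fun a b hab => Ideal.map_mono (Ideal.comap_mono hab)) fun a b hab => ?_
    have h1 := congrArg (fun x : PrimeSpectrum Cb => x.asIdeal.comap π.toRingHom) hab
    simp only [Θ, hTC] at h1
    refine Subtype.ext (PrimeSpectrum.ext ?_)
    have h2 := congrArg (Ideal.map (algebraMap C C')) h1
    rwa [IsLocalization.map_comap (Submonoid.powers g) C', IsLocalization.map_comap (Submonoid.powers g) C'] at h2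
  have hle : ringKrullDim (m.Fiber C') ≤ (n : WithBot ℕ∞) := by
    refine iSup_le fun l => ?_
    let l' : LTSeries (PrimeSpectrum Cb) := l.map (fun z => Θ (e.symm z)) (hΘ.comp e.symm.strictMono)
    obtain ⟨Q, hQ, hQle⟩ := Ideal.exists_minimalPrimes_le (I := (⊥ : Ideal Cb)) (J := l'.head.asIdeal) bot_le
    haveI : Q.IsPrime := hQ.1.1
    have hGh : G ∉ l'.head.asIdeal := fun h => by
      have h1 : g ∈ (e.symm l.head).1.asIdeal.comap (algebraMap C C') := by
        rw [← hTC]
        refine Ideal.mem_comap.2 ?_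
        rw [show π.toRingHom g = G from hgG]
        exact h
      exact (e.symm l.head).1.2.ne_top (Ideal.eq_top_of_isUnit_mem _ h1
        (IsLocalization.map_units C' (⟨g, Submonoid.mem_powers g⟩ : Submonoid.powers g)))
    have hQq : Q ≤ qb := by
      by_contra hQq
      exact hGh (hQle (Q.mem_of_dvd (Finset.dvd_prod_of_mem _ (hfin.mem_toFinset.2 hQ)) (hy' Q hQq)))
    have h2 := hall ⟨Q, inferInstance⟩ hQq
    rw [dim_quotient_eq_coheight] at h2
    exact le_trans (WithBot.coe_le_coe.2 (Order.length_le_coheight (p := l') hQle)) h2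
  rw [hn'] at hle
  exact_mod_cast hle

variable {B : Type u} [CommRing B] [IsLocalRing B] [Algebra A B] [Algebra C B] [IsScalarTower A C B]
  (qb : Ideal Cb) [qb.IsPrime] [IsLocalization.AtPrime B (qb.comap π.toRingHom)]

/-- The dimension of the closed fibre. -/
theorem dim_closedFibre :
    ringKrullDim (B ⧸ Ideal.map (algebraMap A B) (IsLocalRing.maximalIdeal A)) = (qb.height : WithBot ℕ∞) := by
  let q := qb.comap π.toRingHom
  let mB := Ideal.map (algebraMap A B) (IsLocalRing.maximalIdeal A)
  have hJB : (RingHom.ker π.toRingHom).map (algebraMap C B) = mB := by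
    rw [hker, Ideal.map_map, ← IsScalarTower.algebraMap_eq A C B]
  let g0 : {g : C →+* B ⧸ mB // RingHom.ker π.toRingHom ≤ RingHom.ker g} :=
    ⟨(Ideal.Quotient.mk mB).comp (algebraMap C B),
      fun x hx => Ideal.Quotient.eq_zero_iff_mem.2 (hJB ▸ Ideal.mem_map_of_mem _ hx)⟩
  let g : Cb →+* B ⧸ mB := RingHom.liftOfSurjective π.toRingHom hπ g0
  letI : Algebra Cb (B ⧸ mB) := g.toAlgebra
  haveI : IsLocalization.AtPrime (B ⧸ mB) qb := by
    have := IsLocalization.of_surjective (R := C) (R' := Cb) (S' := B ⧸ mB) q.primeCompl B π.toRingHom hπ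
      (Ideal.Quotient.mk mB) Ideal.Quotient.mk_surjective
      (RingHom.ext fun x => (RingHom.liftOfSurjective_comp_apply π.toRingHom hπ g0 x).symm)
      (by rw [Ideal.mk_ker, hJB])
    have hM : q.primeCompl.map π.toRingHom = qb.primeCompl := by
      ext y
      constructor
      · rintro ⟨x, hx, rfl⟩ hy
        exact hx hy
      · intro hy
        obtain ⟨x, rfl⟩ := hπ y
        exact ⟨x, hy, rfl⟩
    show IsLocalization qb.primeCompl (B ⧸ mB)
    rwa [← hM]
  exact IsLocalization.AtPrime.ringKrullDim_eq_height qb (B ⧸ mB)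

variable [Algebra (IsLocalRing.ResidueField A) Cb] [IsScalarTower A (IsLocalRing.ResidueField A) Cb]

/-- The transcendence degree of the residue field. -/
theorem trdeg_residueField [IsLocalHom (algebraMap A B)] :
    Algebra.trdeg (IsLocalRing.ResidueField A) (IsLocalRing.ResidueField B) =
      Algebra.trdeg (IsLocalRing.ResidueField A) (Cb ⧸ qb) := by
  let q := qb.comap π.toRingHom
  let π' : C →+* Cb ⧸ qb := (Ideal.Quotient.mk qb).comp π.toRingHom
  have hπ' : Function.Surjective π' := Ideal.Quotient.mk_surjective.comp hπ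
  have hker' : RingHom.ker π' = q := by rw [← RingHom.comap_ker, Ideal.mk_ker]
  have hg : RingHom.ker ((IsLocalRing.residue B).comp (algebraMap C B)) = q := by
    rw [← RingHom.comap_ker, IsLocalRing.ker_residue]
    exact IsLocalization.AtPrime.under_maximalIdeal B q
  let g : Cb ⧸ qb →+* IsLocalRing.ResidueField B :=
    RingHom.liftOfSurjective π' hπ' ⟨(IsLocalRing.residue B).comp (algebraMap C B), (hker'.trans hg.symm).le⟩
  letI : Algebra (Cb ⧸ qb) (IsLocalRing.ResidueField B) := g.toAlgebra
  have hcomp : ∀ x, algebraMap (Cb ⧸ qb) (IsLocalRing.ResidueField B) (π' x) =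
      IsLocalRing.residue B (algebraMap C B x) := fun x => RingHom.liftOfSurjective_comp_apply π' hπ' _ x
  haveI : IsFractionRing (Cb ⧸ qb) (IsLocalRing.ResidueField B) := by
    have := IsLocalization.of_surjective (R := C) (R' := Cb ⧸ qb) (S' := IsLocalRing.ResidueField B) q.primeCompl B
      π' hπ' (IsLocalRing.residue B) IsLocalRing.residue_surjective (RingHom.ext fun x => (hcomp x).symm)
      (by rw [IsLocalRing.ker_residue, hker', IsLocalization.AtPrime.map_eq_maximalIdeal q B])
    have hM : q.primeCompl.map π' = nonZeroDivisors (Cb ⧸ qb) := by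
      ext y
      rw [mem_nonZeroDivisors_iff_ne_zero]
      constructor
      · rintro ⟨x, hx, rfl⟩ hy
        exact hx (hker' ▸ RingHom.mem_ker.2 hy)
      · intro hy
        obtain ⟨x, rfl⟩ := hπ' y
        exact ⟨x, fun hx => hy (RingHom.mem_ker.1 (hker'.symm ▸ hx)), rfl⟩
    show IsLocalization (nonZeroDivisors (Cb ⧸ qb)) (IsLocalRing.ResidueField B)
    rwa [← hM]
  haveI : IsScalarTower (IsLocalRing.ResidueField A) (Cb ⧸ qb) (IsLocalRing.ResidueField B) :=
    IsScalarTower.of_algebraMap_eq fun c => by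
      obtain ⟨a, rfl⟩ := IsLocalRing.residue_surjective c
      have h1 : π' (algebraMap A C a) =
          algebraMap (IsLocalRing.ResidueField A) (Cb ⧸ qb) (IsLocalRing.residue A a) :=
        congrArg (Ideal.Quotient.mk qb) ((π.commutes a).trans
          (IsScalarTower.algebraMap_apply A (IsLocalRing.ResidueField A) Cb a))
      rw [← h1, hcomp, ← IsScalarTower.algebraMap_apply A C B]
      rfl
  exact DimTrdeg.trdeg_fractionRing _ _ _

/-- Flatness bounds the transcendence degrees in the closed fibre. -/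
theorem trdeg_quotient_le_of_flat [Module.Flat A B] (P : Ideal Cb) [P.IsPrime] (hP : P ≤ qb) :
    Algebra.trdeg (IsLocalRing.ResidueField A) (Cb ⧸ P) ≤ Algebra.trdeg A B := by
  let k := IsLocalRing.ResidueField A
  let L := FractionRing (Cb ⧸ P)
  let f : C →ₐ[A] L := (IsScalarTower.toAlgHom A (Cb ⧸ P) L).comp ((Ideal.Quotient.mkₐ A P).comp π)
  let χ : B →ₐ[A] L := IsLocalization.liftAlgHom (M := (qb.comap π.toRingHom).primeCompl) (f := f) fun y => by
    refine isUnit_iff_ne_zero.2 fun h => y.2 ?_
    exact hP (Ideal.Quotient.eq_zero_iff_mem.1 (IsFractionRing.injective (Cb ⧸ P) L (h.trans (map_zero _).symm)))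
  refine ciSup_le' fun t => ?_
  have hsurj : Function.Surjective fun c : C => Ideal.Quotient.mk P (π c) :=
    Ideal.Quotient.mk_surjective.comp hπ
  choose z hz using fun i : t.1 => hsurj (i : Cb ⧸ P)
  have hind : AlgebraicIndependent k (χ ∘ fun i => algebraMap C B (z i)) := by
    have h1 := t.2.map' (f := IsScalarTower.toAlgHom k (Cb ⧸ P) L) (IsFractionRing.injective _ _)
    convert h1 using 1
    funext i
    simp only [Function.comp_apply, χ, IsLocalization.liftAlgHom_apply]
    exact (IsLocalization.lift_eq _ _).trans (congrArg (algebraMap (Cb ⧸ P) L) (hz i))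
  exact (algebraicIndependent_of_flat χ _ hind).cardinalMk_le_trdeg

end Local

variable {A B : Type u} [CommRing A] [CommRing B] [IsDomain A] [IsDomain B] [IsLocalRing A] [IsLocalRing B]
  [Algebra A B] [IsLocalHom (algebraMap A B)] [FaithfulSMul A B] [Algebra.EssFiniteType A B] [Module.Flat A B]

/-- See the file's docstring. -/
theorem exists_dim_add_trdeg :
    ∃ d e : ℕ, ringKrullDim (B ⧸ Ideal.map (algebraMap A B) (IsLocalRing.maximalIdeal A)) = d ∧
      Algebra.trdeg (IsLocalRing.ResidueField A) (IsLocalRing.ResidueField B) = e ∧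
      Algebra.trdeg A B = (d + e : ℕ) := by
  let C := Algebra.EssFiniteType.subalgebra A B
  let q : Ideal C := (IsLocalRing.maximalIdeal B).comap (algebraMap C B)
  haveI hloc : IsLocalization.AtPrime B q := by
    have hM : Algebra.EssFiniteType.submonoid A B = q.primeCompl := by
      ext x
      show IsUnit (algebraMap C B x) ↔ x ∉ q
      rw [← IsLocalRing.notMem_maximalIdeal]
      rfl
    show IsLocalization q.primeCompl B
    rw [← hM]
    infer_instance
  let m := IsLocalRing.maximalIdeal A
  let k := IsLocalRing.ResidueField A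
  have hqm : q.comap (algebraMap A C) = m := by
    rw [Ideal.comap_comap, ← IsScalarTower.algebraMap_eq A C B]
    exact (((IsLocalRing.local_hom_TFAE (algebraMap A B)).out 0 4).1 ‹IsLocalHom (algebraMap A B)›)
  let J : Ideal C := m.map (algebraMap A C)
  have hJq : J ≤ q := Ideal.map_le_iff_le_comap.2 hqm.ge
  let π : C →ₐ[A] C ⧸ J := Ideal.Quotient.mkₐ A J
  have hπ : Function.Surjective π := Ideal.Quotient.mk_surjective
  have hker : RingHom.ker π.toRingHom = J := Ideal.mk_ker
  letI : Algebra k (C ⧸ J) := Ideal.Quotient.algebraQuotientMapQuotient (R := A) (S := C) (p := m)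
  haveI : IsScalarTower A k (C ⧸ J) := IsScalarTower.of_algebraMap_eq fun _ => rfl
  haveI : Algebra.FiniteType A (C ⧸ J) := Algebra.FiniteType.of_surjective π hπ
  haveI : Algebra.FiniteType k (C ⧸ J) := Algebra.FiniteType.of_restrictScalars_finiteType A _ _
  haveI : IsNoetherianRing (C ⧸ J) := Algebra.FiniteType.isNoetherianRing k _
  let qb : Ideal (C ⧸ J) := q.map π.toRingHom
  haveI hqbp : qb.IsPrime := Ideal.map_isPrime_of_surjective hπ (hker.trans_le hJq)
  have hqbq : qb.comap π.toRingHom = q := by
    rw [Ideal.comap_map_of_surjective π.toRingHom hπ, sup_eq_left, ← RingHom.ker_eq_comap_bot, hker]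
    exact hJq
  haveI : IsLocalization.AtPrime B (qb.comap π.toRingHom) := by simp only [hqbq]; exact hloc
  obtain ⟨n, hn, ⟨P, hPq, -, hPn⟩, hall⟩ := LocalDim.exists_localDim_spec k (⟨qb, hqbp⟩ : PrimeSpectrum (C ⧸ J))
  obtain ⟨s, hs, hs'⟩ := DimTrdeg.exists_trdeg_eq_ringKrullDim k ((C ⧸ J) ⧸ qb)
  have hns : (n : WithBot ℕ∞) = (qb.height : WithBot ℕ∞) + s := by
    rw [← hn, LocalDim.localDim_eq k qb, hs']
  obtain ⟨d, hd⟩ : ∃ d : ℕ, qb.height = (d : ℕ∞) :=
    ⟨_, (ENat.coe_toNat (Ideal.height_ne_top Ideal.IsPrime.ne_top')).symm⟩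
  rw [hd] at hns
  have hnd : n = d + s := by exact_mod_cast hns
  refine ⟨d, s, ?_, (trdeg_residueField π hπ hker qb).trans hs, le_antisymm ?_ ?_⟩
  · rw [dim_closedFibre π hπ hker (B := B) qb, hd]
    rfl
  · have hAC : Function.Injective (algebraMap A C) := fun a b h => FaithfulSMul.algebraMap_injective A B (by
      rw [IsScalarTower.algebraMap_apply A C B, h, ← IsScalarTower.algebraMap_apply A C B])
    haveI : FaithfulSMul C B := (faithfulSMul_iff_algebraMap_injective C B).2 Subtype.val_injective
    haveI : FaithfulSMul A C := (faithfulSMul_iff_algebraMap_injective A C).2 hAC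
    haveI : Algebra.IsAlgebraic C B := IsLocalization.isAlgebraic B q.primeCompl
    rw [DimTrdeg.trdeg_eq_of_isAlgebraic A C B, ← hnd]
    exact trdeg_le_of_fibre π hπ hker qb n fun Q hQ => hall Q hQ
  · obtain ⟨r, hr, hr'⟩ := DimTrdeg.exists_trdeg_eq_ringKrullDim k ((C ⧸ J) ⧸ P.asIdeal)
    have hrn : r = n := by exact_mod_cast hr'.symm.trans hPn
    rw [← hnd, ← hrn, ← hr]
    exact trdeg_quotient_le_of_flat π hπ hker qb P.asIdeal hPq

end Groth.Agent.TrdegFlat
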